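import Cfsg.Agent.Lib.J4Type.Three.Results
import Cfsg.Agent.Lib.J4Type.Ident.Main
import Cfsg.Agent.Lib.J4Type.PlaneUnique
import Cfsg.Agent.Lib.J4Type.NV.Count

/-!
# The sixfold cover and the elements of order three, reduced to the fusion statement

The statements on the sixfold cover, the Sylow `3`-subgroups and the elements of order three follow
from the coordinates once the central involution is known to be fused in `V`.
-/

set_option autoImplicit false

namespace CfsgLib.J4Type.Wrap

open Cfsg

variable {G : Type*} [Group G] [Finite G] {z : G} {P : Subgroup G}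

/-- The local data, given the fusion in every choice of coordinates. -/
theorem exists_frame_local (hJ : IsOfJankoFourTypeWith z P)
    (hfus : ∀ (F : Frame z P) (D : VData F), Fused D) :
    ∃ (F : Frame z P) (D : VData F), Local D := by
  obtain ⟨F⟩ := frame_exists hJ
  obtain ⟨D⟩ := vData_exists F
  exact ⟨F, D, Frame.local_of_fused D (hfus F D)⟩

theorem six_fold_cover (hJ : IsOfJankoFourTypeWith z P)
    (hfus : ∀ (F : Frame z P) (D : VData F), Fused D) :
    ⁅CP z P, CP z P⁆ = CP z P ∧
    IsCyclic ↥(Subgroup.center ↥(CP z P)) ∧ Nat.card ↥(Subgroup.center ↥(CP z P)) = 6 ∧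
    Spor.IsoM22 (↥(CP z P) ⧸ Subgroup.center ↥(CP z P)) ∧
    Subgroup.normalizer (P : Set G) ≤ Cen z := by
  obtain ⟨F, D, L⟩ := exists_frame_local hJ hfus
  exact Three.six_fold_cover F L

theorem sylow_three (hJ : IsOfJankoFourTypeWith z P)
    (hfus : ∀ (F : Frame z P) (D : VData F), Fused D) (R : Sylow 3 G)
    (hR : (R : Subgroup G) ≤ Cen z) :
    IsExtraspecial 3 ↥(R : Subgroup G) ∧ Nat.card ↥(R : Subgroup G) = 27 ∧
    Monoid.exponent ↥(R : Subgroup G) = 3 ∧
    Subgroup.normalizer ((R : Subgroup G) : Set G) ≤ Cen z ∧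
    Nat.card ↥(Subgroup.normalizer ((R : Subgroup G) : Set G)) = 864 := by
  obtain ⟨F, D, L⟩ := exists_frame_local hJ hfus
  exact Three.sylow_three F L R hR

theorem order_three_conj (hJ : IsOfJankoFourTypeWith z P)
    (hfus : ∀ (F : Frame z P) (D : VData F), Fused D) :
    ∀ x y : G, orderOf x = 3 → orderOf y = 3 → IsConj x y := by
  obtain ⟨F, D, L⟩ := exists_frame_local hJ hfus
  exact Three.order_three_conj F L

end CfsgLib.J4Type.Wrap
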