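import Cfsg.Agent.Lib.J4Type.NV.Split
import Cfsg.Agent.Lib.J4Type.Ident.Main
import Cfsg.Agent.Lib.J4Type.PlaneUnique

/-!
The normaliser of an elementary abelian subgroup of order `2 ^ 11`, given the fusion statement.
-/

set_option autoImplicit false

namespace CfsgLib.J4Type.Wrap

open Cfsg Subgroup

variable {G : Type*} [Group G] [Finite G]

theorem split_normalizer (hJ : IsOfJankoFourType G)
    (hfus : ∀ (z : G) (P : Subgroup G) (F : Frame z P) (D : VData F), Fused D) (V : Subgroup G)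
    (hV : IsElementaryAbelian 2 V) (hcard : Nat.card V = 2 ^ 11) :
    centralizer (V : Set G) ≤ V ∧ ∃ K : Subgroup G, K ≤ normalizer (V : Set G) ∧ K ⊓ V = ⊥ ∧
      K ⊔ V = normalizer (V : Set G) ∧ Spor.IsoM24 K := by
  obtain ⟨z, P, hzP⟩ := hJ
  obtain ⟨F⟩ := frame_exists hzP
  obtain ⟨D⟩ := vData_exists F
  obtain ⟨g, rfl⟩ := D.conj V hV hcard
  obtain ⟨K, hK, hi, hs, ⟨e⟩⟩ := Frame.exists_complement D (hfus z P F D)
  set f := (MulAut.conj g).toMonoidHom
  have hf : Function.Injective f := (MulAut.conj g).injective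
  have hn : normalizer ((D.V.map f : Subgroup G) : Set G) = (normalizer (D.V : Set G)).map f :=
    (map_equiv_normalizer_eq D.V (MulAut.conj g)).symm
  refine ⟨?_, K.map f, ?_, ?_, ?_, ⟨(K.equivMapOfInjective f hf).symm.trans e⟩⟩
  · intro x hx
    obtain ⟨y, rfl⟩ := (MulAut.conj g).surjective x
    refine ⟨y, D.cent_le (mem_centralizer_iff.2 fun v hv => hf ?_), rfl⟩
    rw [map_mul, map_mul]
    exact mem_centralizer_iff.1 hx _ ⟨v, hv, rfl⟩
  · rw [hn]; exact map_mono hK
  · rw [← map_inf _ _ _ hf, hi, Subgroup.map_bot]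
  · rw [hn, ← Subgroup.map_sup, hs]

end CfsgLib.J4Type.Wrap
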