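import Cfsg.Agent.Lib.J4Type.NV.Involutions
import Cfsg.Agent.Lib.J4Type.Duad

/-!
The two classes of involutions met by an elementary abelian subgroup of order `2 ^ 11`, and the
centraliser of an involution of the second class.
-/

set_option autoImplicit false

namespace CfsgLib.J4Type

open Cfsg Subgroup CfsgLib.Golay
open scoped Pointwise

variable {G : Type*} [Group G] [Finite G] {z : G} {P : Subgroup G}

namespace Frame

variable {F : Frame z P} (D : VData F)

/-- The orbits of the normaliser of an elementary abelian subgroup of order `2 ^ 11`. -/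
theorem eleven_orbits (hf : Fused D) (V : Subgroup G) (hV : Cfsg.IsElementaryAbelian 2 V)
    (hcard : Nat.card ↥V = 2 ^ 11) :
    ∃ z' t : G, z' ∈ V ∧ t ∈ V ∧ t ≠ 1 ∧ IsConj z z' ∧ ¬ IsConj z t ∧
      Set.ncard {v : G | ∃ n ∈ normalizer (V : Set G), n * z' * n⁻¹ = v} = 1771 ∧
      Set.ncard {v : G | ∃ n ∈ normalizer (V : Set G), n * t * n⁻¹ = v} = 276 ∧
      centralizer ({t} : Set G) ≤ normalizer (V : Set G) := by
  classical
  obtain ⟨g, rfl⟩ := D.conj V hV hcard
  set f : G ≃* G := MulAut.conj g with hfdef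
  have hVm : ∀ y, f y ∈ D.V.map f.toMonoidHom ↔ y ∈ D.V := fun y => by
    refine ⟨fun h => ?_, fun h => ⟨y, h, rfl⟩⟩
    obtain ⟨w, hw, e⟩ := h
    rwa [← f.injective e]
  have hN : ∀ n, f n ∈ normalizer (D.V.map f.toMonoidHom : Set G) ↔
      n ∈ normalizer (D.V : Set G) := by
    intro n
    rw [Subgroup.mem_normalizer_iff, Subgroup.mem_normalizer_iff]
    constructor
    · intro h y
      have := h (f y)
      rwa [← map_inv, ← map_mul, ← map_mul, hVm, hVm] at this
    · intro h y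
      obtain ⟨y, rfl⟩ := f.surjective y
      rw [← map_inv, ← map_mul, ← map_mul, hVm, hVm]
      exact h y
  have horb : ∀ x, {v : G | ∃ n ∈ normalizer (D.V.map f.toMonoidHom : Set G), n * f x * n⁻¹ = v} =
      f '' {v : G | ∃ n ∈ normalizer (D.V : Set G), n * x * n⁻¹ = v} := by
    intro x
    ext v
    constructor
    · rintro ⟨n, hn, rfl⟩
      obtain ⟨m, rfl⟩ := f.surjective n
      exact ⟨m * x * m⁻¹, ⟨m, (hN m).1 hn, rfl⟩, by rw [map_mul, map_mul, map_inv]⟩
    · rintro ⟨_, ⟨m, hm, rfl⟩, rfl⟩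
      exact ⟨f m, (hN m).2 hm, by rw [map_mul, map_mul, map_inv]⟩
  have hconj : ∀ x, IsConj z (f x) ↔ IsConj z x := fun x => by
    have h : IsConj x (f x) := isConj_iff.2 ⟨g, rfl⟩
    exact ⟨fun h' => h'.trans h.symm, fun h' => h'.trans h⟩
  obtain ⟨t, ht⟩ := exists_pairV D hf
  refine ⟨f z, f t, (hVm z).2 D.z_mem, (hVm t).2 ht.1, fun e => ht.2.1 (f.injective (by
    rw [e, map_one])), (hconj z).2 (IsConj.refl z), fun e => ht.2.2 ((hconj t).1 e), ?_, ?_, ?_⟩
  · rw [horb, orbit_classV D hf, Set.ncard_image_of_injective _ f.injective]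
    exact (ncard_class D hf).1
  · rw [horb, orbit_pairV D hf ht, Set.ncard_image_of_injective _ f.injective]
    exact ncard_pairV D hf
  · intro y hy
    obtain ⟨y, rfl⟩ := f.surjective y
    refine (hN y).2 (centralizer_pairV_le D hf ht ?_)
    rw [Subgroup.mem_centralizer_singleton_iff] at hy ⊢
    exact f.injective (by rw [map_mul, map_mul, hy])

/-- The centraliser of an element of pair type of `V` splits over `V`. -/
theorem centralizer_pairV_split (hf : Fused D) {K : Subgroup G}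
    (hKN : K ≤ normalizer (D.V : Set G)) (hKV : K ⊓ D.V = ⊥)
    (hKsup : K ⊔ D.V = normalizer (D.V : Set G)) {t : G} (ht : t ∈ pairV D) :
    D.V ≤ centralizer ({t} : Set G) ∧
      (K ⊓ centralizer ({t} : Set G)) ⊔ D.V = centralizer ({t} : Set G) ∧
      Nonempty (↥(K ⊓ centralizer ({t} : Set G)) ≃* MulAut ↥Spor.M22) := by
  classical
  obtain ⟨M, hM, hsurj⟩ := exists_pairModel_of_fused D hf
  have hVt : D.V ≤ centralizer ({t} : Set G) := fun v hv =>
    Subgroup.mem_centralizer_singleton_iff.2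
      (congrArg Subtype.val (D.elem.1.is_comm.comm ⟨v, hv⟩ ⟨t, ht.1⟩))
  have hsplit : ∀ n ∈ normalizer (D.V : Set G), ∃ k ∈ K, ∃ v ∈ D.V, k * v = n := by
    intro n hn
    have hn' : n ∈ ((K ⊔ D.V : Subgroup G) : Set G) := by rw [hKsup]; exact hn
    rw [Subgroup.coe_mul_of_left_le_normalizer_right K D.V hKN] at hn'
    exact hn'
  refine ⟨hVt, le_antisymm (sup_le inf_le_right hVt) (fun y hy => ?_), ?_⟩
  · obtain ⟨k, hk, v, hv, rfl⟩ := hsplit y (centralizer_pairV_le D hf ht hy)
    refine mul_mem (mem_sup_left ⟨hk, ?_⟩) (mem_sup_right hv)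
    have := mul_mem hy (inv_mem (hVt hv))
    rwa [mul_inv_cancel_right] at this
  obtain ⟨a, b, hab, e⟩ := NV.decode (coV_spec D ht.1).1 (inB_of_pairV D hf ht)
  have hfix : ∀ n (hn : n ∈ normalizer (D.V : Set G)),
      n ∈ centralizer ({t} : Set G) ↔
        ({(⟨M.perm n, M.perm_mem n hn⟩ : M24) • a, (⟨M.perm n, M.perm_mem n hn⟩ : M24) • b} :
          Finset GolayPt) = {a, b} := by
    intro n hn
    have h1 := M.co_conj n hn t ht.1 a b (by rw [hM t ht.1, e])
    have hne : M.perm n a ≠ M.perm n b := fun h => hab ((M.perm n).injective h)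
    rw [Subgroup.mem_centralizer_singleton_iff]
    change n * t = t * n ↔ ({M.perm n a, M.perm n b} : Finset GolayPt) = {a, b}
    have hmem := (Subgroup.mem_normalizer_iff.1 hn t).1 ht.1
    constructor
    · intro h
      rw [h, mul_inv_cancel_right, hM t ht.1, e] at h1
      have ha := (NV.ends_left hne)
      have hb := (NV.ends_right hne)
      rw [← h1] at ha hb
      rcases ha.eq_or hab with e1 | e1 <;> rcases hb.eq_or hab with e2 | e2
      · exact absurd (e1.trans e2.symm) hne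
      · rw [e1, e2]
      · rw [e1, e2, Finset.pair_comm]
      · exact absurd (e1.trans e2.symm) hne
    · intro h
      have ha : M.perm n a ∈ ({a, b} : Finset GolayPt) := by rw [← h]; simp
      have hb : M.perm n b ∈ ({a, b} : Finset GolayPt) := by rw [← h]; simp
      simp only [Finset.mem_insert, Finset.mem_singleton] at ha hb
      have h2 : NV.pv (M.perm n a) (M.perm n b) = NV.pv a b := by
        rcases ha with e1 | e1 <;> rcases hb with e2 | e2
        · exact absurd (e1.trans e2.symm) hne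
        · rw [e1, e2]
        · rw [e1, e2, NV.pv_comm]
        · exact absurd (e1.trans e2.symm) hne
      rw [h2, hM _ hmem] at h1
      have h3 : n * t * n⁻¹ = t := by rw [← (coV_spec D hmem).2, h1, ← e, (coV_spec D ht.1).2]
      exact mul_inv_eq_iff_eq_mul.1 h3
  obtain ⟨eD⟩ := duad_iso hab
  refine ⟨MulEquiv.trans ?_ eD⟩
  let S := MulAction.stabilizer M24 ({a, b} : Finset GolayPt)
  have hS : ∀ σ : M24, σ ∈ S ↔ ({σ • a, σ • b} : Finset GolayPt) = {a, b} := fun σ => by
    rw [MulAction.mem_stabilizer_iff, Finset.smul_finset_insert, Finset.smul_finset_singleton]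
  let ψ : ↥(K ⊓ centralizer ({t} : Set G)) →* ↥S :=
    { toFun := fun k => ⟨⟨M.perm k, M.perm_mem _ (hKN k.2.1)⟩,
        (hS _).2 ((hfix _ (hKN k.2.1)).1 k.2.2)⟩
      map_one' := Subtype.ext (Subtype.ext M.perm_one)
      map_mul' := fun x y => Subtype.ext (Subtype.ext (M.perm_mul _ (hKN x.2.1) _ (hKN y.2.1))) }
  refine MulEquiv.ofBijective ψ ⟨?_, ?_⟩
  · intro x y h
    have h' : M.perm x = M.perm y := congrArg (fun s : ↥S => ((s : M24) : Equiv.Perm GolayPt)) h
    have hk : (x : G) * (y : G)⁻¹ ∈ K := mul_mem x.2.1 (inv_mem y.2.1)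
    have h1 : M.perm ((x : G) * (y : G)⁻¹) = 1 := by
      rw [M.perm_mul _ (hKN x.2.1) _ (inv_mem (hKN y.2.1)), h',
        ← M.perm_mul _ (hKN y.2.1) _ (inv_mem (hKN y.2.1)), mul_inv_cancel, M.perm_one]
    have := Subgroup.mem_bot.1 (hKV.le ⟨hk, (M.perm_eq_one _ (hKN hk)).1 h1⟩)
    exact Subtype.ext (mul_inv_eq_one.1 this)
  · intro σ
    obtain ⟨n, hn, hnσ⟩ := hsurj _ (σ : M24).2
    obtain ⟨k, hk, v, hv, rfl⟩ := hsplit n hn
    have hkσ : M.perm k = ((σ : M24) : Equiv.Perm GolayPt) := by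
      rw [M.perm_mul _ (hKN hk) _ (Subgroup.le_normalizer hv),
        (M.perm_eq_one _ (Subgroup.le_normalizer hv)).2 hv, mul_one] at hnσ
      exact hnσ
    have hkt : k ∈ centralizer ({t} : Set G) := by
      rw [hfix k (hKN hk)]
      have := (hS _).1 σ.2
      rwa [show (⟨M.perm k, M.perm_mem k (hKN hk)⟩ : M24) = (σ : M24) from Subtype.ext hkσ]
    exact ⟨⟨k, hk, hkt⟩, Subtype.ext (Subtype.ext hkσ)⟩

/-- The centraliser of an involution outside the class of the central involution. -/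
theorem second_centralizer [IsSimpleGroup G] (hf : Fused D) {K : Subgroup G}
    (hKN : K ≤ normalizer (D.V : Set G)) (hKV : K ⊓ D.V = ⊥)
    (hKsup : K ⊔ D.V = normalizer (D.V : Set G)) {t : G} (ht : orderOf t = 2)
    (hnc : ¬ IsConj z t) :
    ∃ V L : Subgroup G, V ≤ centralizer ({t} : Set G) ∧ L ≤ centralizer ({t} : Set G) ∧
      centralizer ({t} : Set G) ≤ normalizer (V : Set G) ∧ Cfsg.IsElementaryAbelian 2 V ∧
      Nat.card ↥V = 2 ^ 11 ∧ L ⊓ V = ⊥ ∧ L ⊔ V = centralizer ({t} : Set G) ∧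
      Nonempty (↥L ≃* MulAut ↥Spor.M22) := by
  classical
  obtain ⟨g, hg⟩ := conj_into_pairV D hf hKN hKV hKsup ht hnc
  set u := g * t * g⁻¹ with hu
  obtain ⟨hVu, hsup, ⟨eu⟩⟩ := centralizer_pairV_split D hf hKN hKV hKsup hg
  have hle := centralizer_pairV_le D hf hg
  set f : G ≃* G := MulAut.conj g⁻¹ with hfdef
  have hfu : f u = t := by rw [hfdef, MulAut.conj_apply, hu]; group
  have hC : (centralizer ({u} : Set G)).map f.toMonoidHom = centralizer ({t} : Set G) := by
    ext y
    constructor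
    · rintro ⟨w, hw, rfl⟩
      rw [SetLike.mem_coe, Subgroup.mem_centralizer_singleton_iff] at hw
      rw [Subgroup.mem_centralizer_singleton_iff, ← hfu]
      change f w * f u = f u * f w
      rw [← map_mul, hw, map_mul]
    · intro hy
      obtain ⟨w, rfl⟩ := f.surjective y
      refine ⟨w, ?_, rfl⟩
      rw [Subgroup.mem_centralizer_singleton_iff, ← hfu, ← map_mul, ← map_mul] at hy
      exact Subgroup.mem_centralizer_singleton_iff.2 (f.injective hy)
  refine ⟨D.V.map f.toMonoidHom, (K ⊓ centralizer ({u} : Set G)).map f.toMonoidHom, ?_, ?_, ?_,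
    ?_, ?_, ?_, ?_, ?_⟩
  · rw [← hC]; exact Subgroup.map_mono hVu
  · rw [← hC]; exact Subgroup.map_mono inf_le_right
  · rw [← hC, ← Subgroup.map_equiv_normalizer_eq]
    exact Subgroup.map_mono hle
  · refine ⟨⟨⟨fun a b => ?_⟩⟩, ?_⟩
    · obtain ⟨_, x, hx, rfl⟩ := a
      obtain ⟨_, y, hy, rfl⟩ := b
      have := congrArg Subtype.val (D.elem.1.1.1 (⟨x, hx⟩ : D.V) ⟨y, hy⟩)
      exact Subtype.ext (by
        show f x * f y = f y * f x
        rw [← map_mul, ← map_mul]
        exact congrArg f this)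
    · rintro _ ⟨x, hx, rfl⟩
      rw [← map_pow, D.elem.2 x hx, map_one]
  · rw [Subgroup.card_map_of_injective f.injective, D.card]
  · rw [← Subgroup.map_inf _ _ _ f.injective, eq_bot_iff]
    rintro _ ⟨w, ⟨⟨hwK, -⟩, hwV⟩, rfl⟩
    have := Subgroup.mem_bot.1 (hKV.le ⟨hwK, hwV⟩)
    rw [Subgroup.mem_bot, this, map_one]
  · rw [← Subgroup.map_sup, hsup, hC]
  · exact ⟨((K ⊓ centralizer ({u} : Set G)).equivMapOfInjective f.toMonoidHom
      f.injective).symm.trans eu⟩

end Frame

end CfsgLib.J4Type
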